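import Mathlib.RingTheory.Smooth.StandardSmoothOfFree
import Mathlib.RingTheory.Etale.Kaehler
import Mathlib.RingTheory.Unramified.Field
import Mathlib.RingTheory.Kaehler.JacobiZariski
import Mathlib.RingTheory.Kaehler.Polynomial
import Mathlib.RingTheory.Jacobson.Ring
import Mathlib.RingTheory.RingHom.Etale
import Mathlib.LinearAlgebra.Determinant
import Mathlib.FieldTheory.Perfect
import Mathlib.RingTheory.LocalRing.ResidueField.Basic

/-!
Étale coordinates on a smooth algebra near a point with finite residue field: elements whose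
differentials form a basis, the first of which generates the residue field.
-/

set_option autoImplicit false
universe u
open TensorProduct KaehlerDifferential Module

namespace Groth.Agent.SmoothCoords

/-- A map out of `k[X₁, …, Xₙ]` to a smooth algebra is étale when the differentials of the images of
the variables form a basis. -/
theorem etale_of_basis {k U : Type u} [CommRing k] [CommRing U] [Algebra k U] [Algebra.Smooth k U]
    {ι : Type} [Finite ι] (φ : MvPolynomial ι k →ₐ[k] U) (b : Basis ι U Ω[U⁄k])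
    (hb : ∀ i, b i = D k U (φ (MvPolynomial.X i))) : φ.toRingHom.Etale := by
  letI := φ.toRingHom.toAlgebra
  haveI : IsScalarTower k (MvPolynomial ι k) U := IsScalarTower.of_algHom φ
  haveI : Algebra.FinitePresentation (MvPolynomial ι k) U :=
    Algebra.FinitePresentation.of_restrict_scalars_finitePresentation k _ _
  let bP := (mvPolynomialBasis k ι).baseChange U
  have hbc : mapBaseChange k (MvPolynomial ι k) U = (bP.equiv b (Equiv.refl ι)).toLinearMap := by
    refine bP.ext fun i => ?_
    rw [LinearEquiv.coe_coe, Basis.equiv_apply, Equiv.refl_apply, hb]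
    simp only [bP, Basis.baseChange_apply, mvPolynomialBasis_apply, mapBaseChange_tmul, one_smul,
      KaehlerDifferential.map_D]
    rfl
  have hbij : Function.Bijective (mapBaseChange k (MvPolynomial ι k) U) := by
    rw [hbc]; exact LinearEquiv.bijective _
  have h1 : Subsingleton Ω[U⁄MvPolynomial ι k] := by
    refine subsingleton_of_forall_eq 0 fun z => ?_
    obtain ⟨w, rfl⟩ := KaehlerDifferential.map_surjective k (MvPolynomial ι k) U z
    obtain ⟨v, rfl⟩ := hbij.2 w
    exact (KaehlerDifferential.exact_mapBaseChange_map k (MvPolynomial ι k) U).apply_apply_eq_zero v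
  have h2 : Subsingleton (Algebra.H1Cotangent (MvPolynomial ι k) U) := by
    refine subsingleton_of_forall_eq 0 fun z => ?_
    have h : Algebra.H1Cotangent.δ k (MvPolynomial ι k) U z = 0 := by
      apply hbij.1
      rw [map_zero]
      exact (Algebra.H1Cotangent.exact_δ_mapBaseChange k (MvPolynomial ι k) U).apply_apply_eq_zero z
    obtain ⟨w, rfl⟩ := (Algebra.H1Cotangent.exact_map_δ k (MvPolynomial ι k) U z).1 h
    rw [Subsingleton.elim w 0, map_zero]
  haveI : Algebra.FormallyEtale (MvPolynomial ι k) U := ⟨h1, h2⟩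
  have : Algebra.Etale (MvPolynomial ι k) U := ⟨inferInstance, inferInstance⟩
  exact this

theorem exists_coords (k : Type u) [CommRing k] [IsLocalRing k] [Finite (IsLocalRing.ResidueField k)]
    (R : Type u) [CommRing R] [Algebra k R] [Algebra.FinitePresentation k R]
    (m : Ideal R) [m.IsMaximal] (hm : m.comap (algebraMap k R) = IsLocalRing.maximalIdeal k)
    [Algebra.IsSmoothAt k m] (d : ℕ) (hd : 0 < d)
    (hdim : finrank (R ⧸ m) ((R ⧸ m) ⊗[R] Ω[R⁄k]) = d) :
    ∃ g : R, g ∉ m ∧ ∃ φ : MvPolynomial (Fin d) k →ₐ[k] Localization.Away g,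
      φ.toRingHom.Etale ∧
      Function.Surjective
        ((Ideal.Quotient.mk (m.map (algebraMap R (Localization.Away g)))).comp φ.toRingHom) := by
  obtain ⟨g₀, hg₀, hstd⟩ := Algebra.IsSmoothAt.exists_notMem_isStandardSmooth k m
  let T := Localization.Away g₀
  haveI : Algebra.IsStandardSmooth k T := hstd
  letI : Field (R ⧸ m) := Ideal.Quotient.field m
  have hu : IsUnit (Ideal.Quotient.mk m g₀) := isUnit_iff_ne_zero.2 (by rwa [Ne, Ideal.Quotient.eq_zero_iff_mem])
  let π : T →+* R ⧸ m := IsLocalization.Away.lift g₀ hu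
  have hπ : ∀ r, π (algebraMap R T r) = Ideal.Quotient.mk m r := fun r => IsLocalization.Away.lift_eq g₀ hu r
  letI : Algebra T (R ⧸ m) := π.toAlgebra
  haveI : IsScalarTower R T (R ⧸ m) := IsScalarTower.of_algebraMap_eq fun r => (hπ r).symm
  haveI : IsScalarTower k T (R ⧸ m) := IsScalarTower.of_algebraMap_eq fun c => by
    rw [IsScalarTower.algebraMap_apply k R T, RingHom.algebraMap_toAlgebra, hπ]; rfl
  have hπs : Function.Surjective (algebraMap T (R ⧸ m)) := fun x => by
    obtain ⟨r, rfl⟩ := Ideal.Quotient.mk_surjective x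
    exact ⟨algebraMap R T r, hπ r⟩
  haveI : Nontrivial T := (algebraMap T (R ⧸ m)).domain_nontrivial
  -- the residue field is finite and unramified over `k`
  let k₀ := IsLocalRing.ResidueField k
  let σ : k₀ →+* R ⧸ m := Ideal.Quotient.lift _ (algebraMap k (R ⧸ m)) fun c hc => by
    rw [← hm, Ideal.mem_comap] at hc
    exact Ideal.Quotient.eq_zero_iff_mem.2 hc
  letI : Algebra k₀ (R ⧸ m) := σ.toAlgebra
  haveI : IsScalarTower k k₀ (R ⧸ m) := IsScalarTower.of_algebraMap_eq fun c => rfl
  haveI : Algebra.FiniteType k₀ (R ⧸ m) := Algebra.FiniteType.of_restrictScalars_finiteType k k₀ (R ⧸ m)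
  haveI : Module.Finite k₀ (R ⧸ m) := finite_of_finite_type_of_isJacobsonRing k₀ (R ⧸ m)
  haveI : Finite (R ⧸ m) := Module.finite_of_finite k₀
  haveI : Algebra.IsSeparable k₀ (R ⧸ m) := inferInstance
  haveI : Algebra.FormallyUnramified k₀ (R ⧸ m) := Algebra.FormallyUnramified.of_isSeparable k₀ (R ⧸ m)
  haveI : Algebra.FormallyUnramified k k₀ :=
    Algebra.FormallyUnramified.of_surjective (Algebra.ofId k k₀) IsLocalRing.residue_surjective
  haveI : Algebra.FormallyUnramified k (R ⧸ m) := Algebra.FormallyUnramified.comp k k₀ (R ⧸ m)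
  -- a basis of `Ω[T⁄k]` indexed by `Fin d`
  have hrank : finrank T Ω[T⁄k] = d := by
    have e1 := (KaehlerDifferential.isBaseChange_of_formallyEtale k R T).equiv
    let e2 : (R ⧸ m) ⊗[R] Ω[R⁄k] ≃ₗ[R ⧸ m] (R ⧸ m) ⊗[T] Ω[T⁄k] :=
      (AlgebraTensorModule.cancelBaseChange R T (R ⧸ m) (R ⧸ m) Ω[R⁄k]).symm.trans
        (AlgebraTensorModule.congr (LinearEquiv.refl (R ⧸ m) (R ⧸ m)) e1)
    rw [← hdim, e2.finrank_eq, Module.finrank_baseChange]
  let b : Basis (Fin d) T Ω[T⁄k] := Module.finBasisOfFinrankEq T Ω[T⁄k] hrank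
  -- the residue field is generated by one element
  obtain ⟨a, ha⟩ : ∃ a : T, ∀ x : R ⧸ m, x = 0 ∨ ∃ j : ℕ, algebraMap T (R ⧸ m) a ^ j = x := by
    obtain ⟨ζ, hζ⟩ := IsCyclic.exists_generator (α := (R ⧸ m)ˣ)
    obtain ⟨a, ha⟩ := hπs (ζ : R ⧸ m)
    refine ⟨a, fun x => ?_⟩
    by_cases hx : x = 0
    · exact Or.inl hx
    · right
      obtain ⟨j, hj⟩ := (mem_powers_iff_mem_zpowers.mpr (hζ (Units.mk0 x hx)))
      exact ⟨j, by rw [ha, ← Units.val_pow_eq_pow_val, show ζ ^ j = Units.mk0 x hx from hj, Units.val_mk0]⟩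
  -- elements of the kernel hit every vector
  have hker : ∀ z : (R ⧸ m) ⊗[T] Ω[T⁄k],
      ∃ u : T, algebraMap T (R ⧸ m) u = 0 ∧ (1 : R ⧸ m) ⊗ₜ[T] D k T u = z := by
    intro z
    obtain ⟨w, rfl⟩ := ((KaehlerDifferential.exact_kerCotangentToTensor_mapBaseChange k T (R ⧸ m) hπs) z).1
      (Subsingleton.elim _ _)
    obtain ⟨x, rfl⟩ := Ideal.toCotangent_surjective _ w
    exact ⟨x.1, x.2, rfl⟩
  let i₀ : Fin d := ⟨0, hd⟩
  let c : Fin d → T := fun i => if i = i₀ then a else 0
  choose v hv hvD using fun i : Fin d => hker ((1 : R ⧸ m) ⊗ₜ[T] b i - (1 : R ⧸ m) ⊗ₜ[T] D k T (c i))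
  let f : Fin d → T := fun i => c i + v i
  have hfD : ∀ i, (1 : R ⧸ m) ⊗ₜ[T] D k T (f i) = (1 : R ⧸ m) ⊗ₜ[T] b i := fun i => by
    rw [map_add, TensorProduct.tmul_add, hvD]; abel
  have hf₀ : algebraMap T (R ⧸ m) (f i₀) = algebraMap T (R ⧸ m) a := by
    simp [f, c, hv]
  -- the determinant
  let Dt : T := b.det fun i => D k T (f i)
  have hDt : algebraMap T (R ⧸ m) Dt = 1 := by
    rw [show Dt = (b.toMatrix fun i => D k T (f i)).det from Basis.det_apply _ _, RingHom.map_det]
    rw [← Matrix.det_one (n := Fin d) (R := R ⧸ m)]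
    congr 1
    ext i j
    have h := congrArg (fun z => (b.baseChange (R ⧸ m)).repr z i) (hfD j)
    simp only [Basis.baseChange_repr_tmul, Basis.repr_self] at h
    rw [Algebra.smul_def, Algebra.smul_def, mul_one, mul_one] at h
    simp only [RingHom.mapMatrix_apply, Matrix.map_apply, Basis.toMatrix_apply]
    rw [h, Matrix.one_apply, Finsupp.single_apply]
    by_cases hij : i = j
    · simp [hij]
    · simp [hij, Ne.symm hij]
  -- localize once more
  let U := Localization.Away Dt
  let g : R := g₀ * (IsLocalization.Away.sec g₀ Dt).1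
  have hsec := IsLocalization.Away.associated_sec_fst (S := T) g₀ Dt
  haveI : IsLocalization.Away g U := .mul_of_associated _ _ Dt hsec
  have hg : g ∉ m := by
    refine Ideal.IsPrime.mul_notMem inferInstance hg₀ fun hmem => ?_
    obtain ⟨w, hw⟩ := hsec
    have h0 := congrArg (algebraMap T (R ⧸ m)) hw
    rw [map_mul, ← IsScalarTower.algebraMap_apply, show algebraMap R (R ⧸ m) _ = 0 from
      Ideal.Quotient.eq_zero_iff_mem.2 hmem] at h0
    rw [zero_mul, hDt] at h0
    exact zero_ne_one h0
  -- the coordinates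
  haveI : Algebra.Smooth k U := Algebra.Smooth.comp k T U
  let bU : Basis (Fin d) U Ω[U⁄k] :=
    (b.baseChange U).map (KaehlerDifferential.isBaseChange_of_formallyEtale k T U).equiv
  have hbU : ∀ (t : T) i, bU.repr (D k U (algebraMap T U t)) i = algebraMap T U (b.repr (D k T t) i) := by
    intro t i
    have h : (KaehlerDifferential.isBaseChange_of_formallyEtale k T U).equiv ((1 : U) ⊗ₜ[T] D k T t) =
        D k U (algebraMap T U t) := by
      rw [IsBaseChange.equiv_tmul, one_smul]
      exact KaehlerDifferential.map_D k k T U t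
    rw [Basis.map_repr, LinearEquiv.trans_apply, ← h, LinearEquiv.symm_apply_apply,
      Basis.baseChange_repr_tmul, Algebra.smul_def, mul_one]
  have hunit : IsUnit (bU.det fun i => D k U (algebraMap T U (f i))) := by
    have : bU.toMatrix (fun i => D k U (algebraMap T U (f i))) =
        (algebraMap T U).mapMatrix (b.toMatrix fun i => D k T (f i)) := by
      ext i j
      simp only [RingHom.mapMatrix_apply, Matrix.map_apply, Basis.toMatrix_apply, hbU]
    rw [Basis.det_apply, this, ← RingHom.map_det, ← Basis.det_apply]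
    exact IsLocalization.Away.algebraMap_isUnit Dt
  obtain ⟨hli, hsp⟩ := (Basis.is_basis_iff_det bU).2 hunit
  let φ₀ : MvPolynomial (Fin d) k →ₐ[k] U := MvPolynomial.aeval fun i => algebraMap T U (f i)
  have het : φ₀.toRingHom.Etale := etale_of_basis φ₀ (Basis.mk hli hsp.ge) fun i => by
    rw [Basis.mk_apply, MvPolynomial.aeval_X]
  let e : U ≃ₐ[R] Localization.Away g :=
    IsLocalization.algEquiv (Submonoid.powers g) U (Localization.Away g)
  refine ⟨g, hg, ((e.restrictScalars k).toAlgHom).comp φ₀, ?_, ?_⟩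
  · exact RingHom.Etale.respectsIso.1 _ e.toRingEquiv het
  · -- both sides are the residue field
    intro y
    obtain ⟨y, rfl⟩ := Ideal.Quotient.mk_surjective y
    have hug : IsUnit (Ideal.Quotient.mk m g) :=
      isUnit_iff_ne_zero.2 (by rwa [Ne, Ideal.Quotient.eq_zero_iff_mem])
    let θ : Localization.Away g →+* R ⧸ m := IsLocalization.Away.lift g hug
    have hθ : ∀ r, θ (algebraMap R _ r) = Ideal.Quotient.mk m r := fun r => IsLocalization.Away.lift_eq g hug r
    have hθker : RingHom.ker θ ≤ m.map (algebraMap R (Localization.Away g)) := by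
      intro z hz
      obtain ⟨⟨r, s⟩, hrs⟩ := IsLocalization.surj (Submonoid.powers g) z
      have hr : r ∈ m := by
        rw [← Ideal.Quotient.eq_zero_iff_mem, ← hθ, ← hrs, map_mul, RingHom.mem_ker.1 hz, zero_mul]
      have : z * algebraMap R _ (s : R) ∈ m.map (algebraMap R (Localization.Away g)) :=
        hrs ▸ Ideal.mem_map_of_mem _ hr
      exact (Ideal.mul_unit_mem_iff_mem _ (IsLocalization.map_units _ s)).1 this
    have hunit' : IsUnit (algebraMap T (R ⧸ m) Dt) := by rw [hDt]; exact isUnit_one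
    let θ' : U →+* R ⧸ m := IsLocalization.Away.lift Dt hunit'
    have hθ' : ∀ t, θ' (algebraMap T U t) = algebraMap T (R ⧸ m) t := fun t =>
      IsLocalization.Away.lift_eq Dt hunit' t
    have hcomp : θ.comp e.toRingEquiv.toRingHom = θ' := by
      refine IsLocalization.ringHom_ext (Submonoid.powers g) (RingHom.ext fun r => ?_)
      show θ (e (algebraMap R U r)) = θ' (algebraMap R U r)
      rw [AlgEquiv.commutes, hθ, IsScalarTower.algebraMap_apply R T U, hθ', ← IsScalarTower.algebraMap_apply]
      rfl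
    rcases ha (θ y) with h0 | ⟨j, hj⟩
    · refine ⟨0, ?_⟩
      rw [map_zero]
      exact (Ideal.Quotient.eq_zero_iff_mem.2 (hθker h0)).symm
    · refine ⟨MvPolynomial.X i₀ ^ j, ?_⟩
      apply Ideal.Quotient.eq.2
      apply hθker
      rw [RingHom.mem_ker, map_sub, sub_eq_zero]
      show θ (e.toRingEquiv.toRingHom (φ₀ (MvPolynomial.X i₀ ^ j))) = θ y
      rw [← RingHom.comp_apply, hcomp, map_pow, MvPolynomial.aeval_X, map_pow, hθ', hf₀, hj]

end Groth.Agent.SmoothCoords
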